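import Cfsg.Agent.BenderMod.PairPSL
set_option linter.all false

/-!
# The module bound

`L` finite, `O` its largest normal subgroup of odd order, `Pair (L ⧸ O) a`, all involutions of `L` conjugate.
If an involution `t` acts nontrivially on the elementary abelian 2-group `M` then `|M : C_M(t)| ≥ 2 ^ a`.
-/

set_option autoImplicit false

namespace Cfsg.Agent.BenderMod

open Subgroup

section Lift

variable {L : Type*} [Group L] [Finite L]

omit [Finite L] in
/-- Involutions lift modulo a normal subgroup of odd order. -/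
theorem exists_lift {O : Subgroup L} [O.Normal] (hO : Odd (Nat.card O)) {x : L ⧸ O} (hx : orderOf x = 2) :
    ∃ y : L, orderOf y = 2 ∧ (QuotientGroup.mk y : L ⧸ O) = x := by
  obtain ⟨g, rfl⟩ := QuotientGroup.mk_surjective x
  have h1 : g ^ 2 ∈ O := by
    rw [← QuotientGroup.eq_one_iff, QuotientGroup.mk_pow, ← hx, pow_orderOf_eq_one]
  have h2 : (g ^ 2) ^ Nat.card O = 1 := by
    have h3 : (⟨g ^ 2, h1⟩ : O) ^ Nat.card O = 1 := pow_card_eq_one'
    exact congrArg Subtype.val h3
  have h4 : (QuotientGroup.mk (g ^ Nat.card O) : L ⧸ O) = QuotientGroup.mk g := by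
    obtain ⟨k, hk⟩ := hO
    rw [QuotientGroup.mk_pow, hk, pow_succ, pow_mul, ← hx, pow_orderOf_eq_one, one_pow, one_mul]
  refine ⟨g ^ Nat.card O, orderOf_eq_prime ?_ ?_, h4⟩
  · rw [← pow_mul, mul_comm, pow_mul, h2]
  · intro h
    rw [h] at h4
    rw [← h4, QuotientGroup.mk_one, orderOf_one] at hx
    exact absurd hx (by norm_num)

end Lift

section Count

variable {M : Type*} [Group M]

/-- The fixed points of an automorphism. -/
def fix (w : MulAut M) : Subgroup M where
  carrier := {m | w m = m}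
  one_mem' := map_one w
  mul_mem' {a b} ha hb := by
    change w (a * b) = a * b
    rw [map_mul, ha, hb]
  inv_mem' {a} ha := by
    change w a⁻¹ = a⁻¹
    rw [map_inv, ha]

theorem mem_fix {w : MulAut M} {m : M} : m ∈ fix w ↔ w m = m := Iff.rfl

theorem fix_le_pow (w : MulAut M) (k : ℕ) : fix w ≤ fix (w ^ k) := by
  intro m hm
  induction k with
  | zero => simp [mem_fix]
  | succ k ih =>
    rw [mem_fix] at ih ⊢
    rw [pow_succ, MulAut.mul_apply, mem_fix.1 hm, ih]

/-- An automorphism of order `p ^ j` has orbits of length `p ^ j` outside the fixed points of its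
power of order `p`. -/
theorem dvd_card_sub [Finite M] {p j : ℕ} (hp : p.Prime) (hj : 1 ≤ j) {c : MulAut M}
    (hc : orderOf c = p ^ j) : p ^ j ∣ Nat.card M - Nat.card (fix (c ^ p ^ (j - 1))) := by
  classical
  set w := c ^ p ^ (j - 1) with hw
  -- the action on the complement
  let X := {m : M // w m ≠ m}
  have hinv : ∀ g ∈ zpowers c, ∀ m : M, w m ≠ m → w (g m) ≠ g m := by
    rintro g hg m hm h
    obtain ⟨k, rfl⟩ := mem_zpowers_iff.1 hg
    apply hm
    have hcomm : Commute w (c ^ k) := by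
      rw [hw]
      exact (Commute.refl c).pow_left _ |>.zpow_right k
    have h1 : (c ^ k) (w m) = (c ^ k) m := by
      rw [← MulAut.mul_apply, ← hcomm.eq, MulAut.mul_apply, h]
    exact (c ^ k).injective h1
  let act : MulAction (zpowers c) X :=
    { smul := fun g m => ⟨(g : MulAut M) m.1, hinv g g.2 m.1 m.2⟩
      one_smul := fun m => rfl
      mul_smul := fun g h m => rfl }
  have hsmul : ∀ (g : zpowers c) (m : X), ((g • m : X) : M) = (g : MulAut M) m.1 := fun _ _ => rfl
  have hfree : ∀ m : X, MulAction.stabilizer (zpowers c) m = ⊥ := by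
    intro m
    rw [eq_bot_iff]
    rintro ⟨g, hg⟩ hgm
    rw [mem_bot]
    apply Subtype.ext
    change g = 1
    have h1 : g m.1 = m.1 := congrArg Subtype.val (MulAction.mem_stabilizer_iff.1 hgm)
    by_contra hg1
    -- the period of `m` under `c`
    have hpow : ∀ k : ℕ, (c ^ k) m.1 = m.1 → p ^ j ∣ k := by
      intro k hk
      by_contra hndvd
      obtain ⟨i, hi, hgcd⟩ := (Nat.dvd_prime_pow hp).1 (Nat.gcd_dvd_right k (p ^ j))
      have hij : i ≤ j - 1 := by
        by_contra hcon
        have : i = j := by omega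
        rw [this] at hgcd
        exact hndvd (hgcd ▸ Nat.gcd_dvd_left k (p ^ j))
      -- `c ^ gcd` fixes `m`
      have h2 : (c ^ (Nat.gcd k (p ^ j))) m.1 = m.1 := by
        have h3 : c ^ (Nat.gcd k (p ^ j)) = (c ^ k) ^ (Nat.gcdA k (p ^ j)) := by
          have h4 := Nat.gcd_eq_gcd_ab k (p ^ j)
          rw [← zpow_natCast c (Nat.gcd k (p ^ j)), h4, zpow_add, zpow_mul, zpow_mul, zpow_natCast,
            zpow_natCast, ← hc, pow_orderOf_eq_one, one_zpow, mul_one]
        rw [h3]
        have h5 : c ^ k ∈ MulAction.stabilizer (MulAut M) m.1 := hk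
        exact zpow_mem h5 _
      rw [hgcd] at h2
      apply m.2
      have h3 : w = (c ^ p ^ i) ^ (p ^ (j - 1 - i)) := by
        rw [hw, ← pow_mul, ← pow_add]
        congr 2
        omega
      have h5 : c ^ p ^ i ∈ MulAction.stabilizer (MulAut M) m.1 := h2
      have h6 := pow_mem h5 (p ^ (j - 1 - i))
      rw [← h3] at h6
      exact h6
    obtain ⟨k, hk⟩ := (Submonoid.mem_powers_iff g c).1 (mem_powers_iff_mem_zpowers.2 hg)
    rw [← hk] at h1 hg1
    obtain ⟨d, hd⟩ := hpow k h1
    apply hg1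
    rw [hd, ← hc, pow_mul, pow_orderOf_eq_one, one_pow]
  have h1 := Nat.card_congr (MulAction.selfEquivOrbitsQuotientProd hfree)
  rw [Nat.card_prod, Nat.card_zpowers, hc] at h1
  have h2 : Nat.card X = Nat.card M - Nat.card (fix w) := by
    have h3 : Nat.card X + Nat.card (fix w) = Nat.card M := by
      have h4 := Nat.card_congr (Equiv.sumCompl (fun m : M => w m = m))
      rw [Nat.card_sum] at h4
      rw [← h4, add_comm]
      rfl
    omega
  rw [← h2, h1]
  exact dvd_mul_left _ _

end Count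

section Bound

variable {L : Type*} [Group L] [Finite L] {M : Type*} [CommGroup M] [Finite M]

theorem two_pow_index {M : Type*} [Group M] [Finite M] (hM : ∀ m : M, m * m = 1) :
    IsPGroup 2 M := fun m => ⟨1, by rw [pow_one, pow_two, hM]⟩

theorem bound {O : Subgroup L} [O.Normal] (hO : Odd (Nat.card O))
    (hmax : ∀ K : Subgroup L, K.Normal → Odd (Nat.card K) → K ≤ O) {a : ℕ} (hP : Pair (L ⧸ O) a)
    (hM : ∀ m : M, m * m = 1)
    (hconj : ∀ x y : L, orderOf x = 2 → orderOf y = 2 → ∃ g : L, g * x * g⁻¹ = y)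
    (f : L →* MulAut M) {t : L} (ht : orderOf t = 2) (hne : f t ≠ 1) :
    2 ^ a * Nat.card (fix (f t)) ≤ Nat.card M := by
  classical
  have : Fact (Nat.Prime 2) := ⟨Nat.prime_two⟩
  obtain ⟨x', y', hx', hy', p, j, hp, hp2, hj, h1, h2⟩ := hP
  obtain ⟨x, hx, rfl⟩ := exists_lift hO hx'
  obtain ⟨y, hy, rfl⟩ := exists_lift hO hy'
  -- all involutions have the same number of fixed points
  have hcard : ∀ s : L, orderOf s = 2 → Nat.card (fix (f s)) = Nat.card (fix (f t)) := by
    intro s hs
    obtain ⟨g, rfl⟩ := hconj t s ht hs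
    symm
    refine Nat.card_congr ⟨fun m => ⟨f g m.1, ?_⟩, fun m => ⟨f g⁻¹ m.1, ?_⟩, ?_, ?_⟩
    · have h3 : f t m.1 = m.1 := m.2
      rw [mem_fix, ← MulAut.mul_apply, ← map_mul, inv_mul_cancel_right, map_mul, MulAut.mul_apply, h3]
    · have h3 : f (g * t * g⁻¹) m.1 = m.1 := m.2
      have h4 : f g⁻¹ (f (g * t * g⁻¹) m.1) = f g⁻¹ m.1 := by rw [h3]
      rw [← MulAut.mul_apply, ← map_mul, show g⁻¹ * (g * t * g⁻¹) = t * g⁻¹ by group, map_mul,
        MulAut.mul_apply] at h4
      exact h4
    · intro m; apply Subtype.ext; change f g⁻¹ (f g m.1) = m.1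
      rw [← MulAut.mul_apply, ← map_mul, inv_mul_cancel, map_one, MulAut.one_apply]
    · intro m; apply Subtype.ext; change f g (f g⁻¹ m.1) = m.1
      rw [← MulAut.mul_apply, ← map_mul, mul_inv_cancel, map_one, MulAut.one_apply]
  -- the kernel of the action has odd order
  have hK : f.ker ≤ O := by
    apply hmax _ inferInstance
    rw [← Nat.not_even_iff_odd]
    intro heven
    obtain ⟨k, hk⟩ := exists_prime_orderOf_dvd_card' 2 (even_iff_two_dvd.1 heven)
    obtain ⟨g, hg⟩ := hconj k.1 t (by rw [orderOf_coe]; exact hk) ht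
    apply hne
    have h3 : t ∈ f.ker := by
      rw [← hg]
      exact (inferInstance : f.ker.Normal).conj_mem _ k.2 g
    exact MonoidHom.mem_ker.1 h3
  set z := x * y with hz
  have hdvd : p ^ j ∣ orderOf (f z) := by
    apply h1
    rw [← QuotientGroup.mk_mul, ← QuotientGroup.mk_pow, QuotientGroup.eq_one_iff]
    apply hK
    rw [MonoidHom.mem_ker, map_pow, ← hz, pow_orderOf_eq_one]
  have hn0 : orderOf (f z) ≠ 0 := (orderOf_pos _).ne'
  set c := f z ^ (orderOf (f z) / p ^ j) with hc
  have hcord : orderOf c = p ^ j := by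
    rw [hc, orderOf_pow_of_dvd (Nat.div_ne_zero_iff.2 ⟨(pow_pos hp.pos j).ne', Nat.le_of_dvd
      (Nat.pos_of_ne_zero hn0) hdvd⟩) (Nat.div_dvd_of_dvd hdvd), Nat.div_div_self hdvd hn0]
  set w := c ^ p ^ (j - 1) with hw
  have hdc := dvd_card_sub hp hj hcord
  rw [← hw] at hdc
  have hw1 : w ≠ 1 := by
    intro h
    have h3 : p ^ j ∣ p ^ (j - 1) := by rw [← hcord]; exact orderOf_dvd_of_pow_eq_one h
    have h4 := Nat.le_of_dvd (pow_pos hp.pos _) h3
    exact absurd h4 (not_le_of_gt (Nat.pow_lt_pow_right hp.one_lt (by omega)))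
  have hlt : fix w ≠ ⊤ := by
    intro h
    apply hw1
    ext m
    have : m ∈ fix w := h ▸ mem_top m
    exact this
  -- cardinalities
  obtain ⟨μ, hμ⟩ := IsPGroup.iff_card.1 (two_pow_index hM)
  obtain ⟨φ, hφ⟩ := IsPGroup.iff_card.1 ((two_pow_index hM).to_subgroup (fix w))
  have hφμ : φ < μ := by
    have h3 : Nat.card (fix w) < Nat.card M := by
      refine lt_of_le_of_ne (Subgroup.card_le_card_group _) ?_
      intro h
      exact hlt (Subgroup.eq_top_of_card_eq _ h)
    rw [hμ, hφ] at h3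
    exact (Nat.pow_lt_pow_iff_right (by norm_num)).1 h3
  have hidx : (fix w).index = 2 ^ (μ - φ) := by
    have h3 := Subgroup.card_mul_index (fix w)
    rw [hμ, hφ] at h3
    have h4 : 2 ^ μ = 2 ^ φ * 2 ^ (μ - φ) := by rw [← pow_add]; congr 1; omega
    rw [h4] at h3
    exact Nat.eq_of_mul_eq_mul_left (by positivity) h3
  have h3 : p ^ j ∣ 2 ^ (μ - φ) - 1 := by
    rw [hμ, hφ] at hdc
    have h4 : 2 ^ μ - 2 ^ φ = 2 ^ φ * (2 ^ (μ - φ) - 1) := by
      rw [Nat.mul_sub, mul_one, ← pow_add]
      congr 2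
      omega
    rw [h4] at hdc
    refine Nat.Coprime.dvd_of_dvd_mul_left ?_ hdc
    exact Nat.Coprime.pow_left _ (Nat.Coprime.pow_right _
      ((Nat.coprime_primes hp Nat.prime_two).2 hp2))
  have h4 : 2 * a ≤ μ - φ := by
    rcases h2 _ h3 with h5 | h5
    · omega
    · exact h5
  have h5 : (fix w).index ≤ (fix (f x)).index * (fix (f y)).index := by
    refine le_trans (Nat.le_of_dvd ?_ (Subgroup.index_dvd_of_le ?_)) Subgroup.index_inf_le
    · exact Nat.pos_of_ne_zero Subgroup.index_ne_zero_of_finite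
    · intro m hm
      have h6 : m ∈ fix (f z) := by
        rw [mem_fix, hz, map_mul, MulAut.mul_apply, mem_fix.1 hm.2, mem_fix.1 hm.1]
      exact fix_le_pow _ _ (fix_le_pow _ _ h6)
  set k := Nat.card (fix (f t)) with hk
  have hk0 : 0 < k := Nat.card_pos
  have h6 : k * (fix (f x)).index = Nat.card M := by
    rw [← Subgroup.card_mul_index (fix (f x)), hcard x hx]
  have h7 : k * (fix (f y)).index = Nat.card M := by
    rw [← Subgroup.card_mul_index (fix (f y)), hcard y hy]
  have h8 : (fix (f y)).index = (fix (f x)).index := Nat.eq_of_mul_eq_mul_left hk0 (h7.trans h6.symm)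
  rw [h8, hidx] at h5
  have h9 : (2 ^ a) * 2 ^ a ≤ 2 ^ (μ - φ) := by
    rw [← pow_add]
    exact Nat.pow_le_pow_right (by norm_num) (by omega)
  have h10 : 2 ^ a ≤ (fix (f x)).index := Nat.mul_self_le_mul_self_iff.1 (h9.trans h5)
  rw [← h6, mul_comm]
  exact Nat.mul_le_mul_left k h10

end Bound

end Cfsg.Agent.BenderMod
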